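import Groth.Prelude.Def_PolLaw
import Groth.Prelude.Def_PolLaw2
import Mathlib

/-!
# The determinant law of a finite module over an integrally closed domain

Over algebras over the fraction field the module becomes free; for polynomial rings the determinant
is integral, hence has coefficients in the base, and this gives a law on all test algebras.
-/

universe u

open scoped TensorProduct
open PolLaw

namespace Groth.Agent.PolLawLib.GenericRank

variable {A : Type u} [CommRing A] (K : Type u) [Field K] [Algebra A K]
  (M : Type u) [AddCommGroup M] [Module A M]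
  {ι : Type} (bK : Module.Basis ι K (K ⊗[A] M))

/-- The basis of `R ⊗ M` for a `K`-algebra `R`. -/
noncomputable def basisR (R : Type u) [CommRing R] [Algebra A R] [Algebra K R] [IsScalarTower A K R] :
    Module.Basis ι R (R ⊗[A] M) :=
  (bK.baseChange R).map (TensorProduct.AlgebraTensorModule.cancelBaseChange A K R R M)

theorem basisR_repr_tmul (R : Type u) [CommRing R] [Algebra A R] [Algebra K R] [IsScalarTower A K R]
    (r : R) (m : M) (i : ι) :
    (basisR K M bK R).repr (r ⊗ₜ[A] m) i = algebraMap K R (bK.repr ((1 : K) ⊗ₜ[A] m) i) * r := by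
  simp [basisR, Algebra.smul_def]

variable {B : Type u} [CommRing B] [Algebra A B] [Module B M] [IsScalarTower A B M]

include bK in
/-- Naturality of the determinant over `K`-algebras. -/
theorem detAct_map_of_basis [Finite ι] {R R' : Type u} [CommRing R] [Algebra A R] [Algebra K R]
    [IsScalarTower A K R] [CommRing R'] [Algebra A R'] [Algebra K R'] [IsScalarTower A K R']
    (ψ : R →ₐ[K] R') (x : R ⊗[A] B) :
    detAct M R' (Algebra.TensorProduct.map (ψ.restrictScalars A) (AlgHom.id A B) x) =
      ψ (detAct M R x) := by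
  classical
  cases nonempty_fintype ι
  have hrepr : ∀ (z : R ⊗[A] M) (i : ι),
      (basisR K M bK R').repr ((ψ.restrictScalars A).toLinearMap.rTensor M z) i =
        ψ ((basisR K M bK R).repr z i) := by
    intro z i
    induction z using TensorProduct.induction_on with
    | zero => simp
    | tmul t m => simp [basisR_repr_tmul]
    | add z z' hz hz' => simp only [map_add, Finsupp.add_apply, hz, hz']
  have hb : ∀ j, (ψ.restrictScalars A).toLinearMap.rTensor M (basisR K M bK R j) =
      basisR K M bK R' j := by
    intro j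
    refine (basisR K M bK R').repr.injective (Finsupp.ext fun i => ?_)
    rw [hrepr, Module.Basis.repr_self, Module.Basis.repr_self]
    simp only [Finsupp.single_apply]
    split <;> simp
  unfold detAct
  rw [← LinearMap.det_toMatrix (basisR K M bK R'), ← LinearMap.det_toMatrix (basisR K M bK R),
    AlgHom.map_det]
  congr 1
  ext i j
  simp only [AlgHom.mapMatrix_apply, Matrix.map_apply, LinearMap.toMatrix_apply]
  rw [← hb, ← hrepr, rTensor_actEnd]

/-- An endomorphism of a finite-dimensional space over an algebraically closed field annihilated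
by a monic polynomial over `P` has determinant integral over `P`. -/
theorem isIntegral_det {P Ω V : Type u} [CommRing P] [Field Ω] [IsAlgClosed Ω] [Algebra P Ω]
    [AddCommGroup V] [Module Ω V] [FiniteDimensional Ω V] (T : Module.End Ω V) (χ : Polynomial P)
    (hχ : χ.Monic) (h : Polynomial.aeval T (χ.map (algebraMap P Ω)) = 0) :
    IsIntegral P (LinearMap.det T) := by
  rw [Module.End.det_eq_prod_roots_charpoly_of_splits (IsAlgClosed.splits _)]
  refine IsIntegral.multiset_prod fun μ hμ => ⟨χ, hχ, ?_⟩
  have hev : T.HasEigenvalue μ :=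
    (T.hasEigenvalue_iff_isRoot_charpoly μ).mpr (Polynomial.isRoot_of_mem_roots hμ)
  obtain ⟨v, hv⟩ := hev.exists_hasEigenvector
  have h1 := Module.End.aeval_apply_of_hasEigenvector (p := χ.map (algebraMap P Ω)) hv
  rw [h, LinearMap.zero_apply] at h1
  have := (smul_eq_zero.mp h1.symm).resolve_right hv.2
  rwa [Polynomial.eval_map] at this

variable [Module.Finite A M] [IsDomain A] [IsIntegrallyClosed A] [IsFractionRing A K] [Finite ι]

include bK in
theorem exists_int {σ : Type u} (z : MvPolynomial σ A ⊗[A] B) :
    ∃ δ : MvPolynomial σ A, MvPolynomial.map (algebraMap A K) δ =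
      detAct M (MvPolynomial σ K) (Algebra.TensorProduct.map
        (MvPolynomial.mapAlgHom (Algebra.ofId A K)) (AlgHom.id A B) z) := by
  classical
  set R := MvPolynomial σ K
  set P := MvPolynomial σ A
  let j : P →ₐ[A] R := MvPolynomial.mapAlgHom (Algebra.ofId A K)
  let Ω := AlgebraicClosure (FractionRing R)
  let toΩ : R →ₐ[K] Ω := IsScalarTower.toAlgHom K R Ω
  let jΩ : P →ₐ[A] Ω := (toΩ.restrictScalars A).comp j
  let : Algebra P Ω := jΩ.toRingHom.toAlgebra
  set x := Algebra.TensorProduct.map j (AlgHom.id A B) z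
  have hnat := detAct_map_of_basis K M bK toΩ x
  have hcomp : Algebra.TensorProduct.map (toΩ.restrictScalars A) (AlgHom.id A B) x =
      Algebra.TensorProduct.map jΩ (AlgHom.id A B) z := by
    simp only [x, jΩ]
    rw [← AlgHom.comp_apply, ← Algebra.TensorProduct.map_comp, AlgHom.id_comp]
  rw [hcomp] at hnat
  obtain ⟨χ, hχ, hχ0⟩ :=
    LinearMap.exists_monic_and_aeval_eq_zero P (actEnd M P z : Module.End P (P ⊗[A] M))
  have hint : IsIntegral P (toΩ (detAct M R x)) := by
    rw [← hnat, detAct]
    have : Module.Finite Ω (Ω ⊗[A] M) := Module.Finite.of_basis (basisR K M bK Ω)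
    refine isIntegral_det _ χ hχ ?_
    set T := actEnd M Ω (Algebra.TensorProduct.map jΩ (AlgHom.id A B) z)
    have key : ∀ (p : Polynomial P) (w : P ⊗[A] M),
        jΩ.toLinearMap.rTensor M (Polynomial.aeval (actEnd M P z) p w) =
          Polynomial.aeval T (p.map (algebraMap P Ω)) (jΩ.toLinearMap.rTensor M w) := by
      intro p
      induction p using Polynomial.induction_on' with
      | add p q hp hq =>
        intro w
        simp only [map_add, Polynomial.map_add, LinearMap.add_apply, hp, hq]
      | monomial k a =>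
        intro w
        simp only [Polynomial.map_monomial, Polynomial.aeval_monomial, Module.End.mul_apply,
          Module.algebraMap_end_apply]
        have hsm : ∀ (c : P) (w : P ⊗[A] M), jΩ.toLinearMap.rTensor M (c • w) =
            algebraMap P Ω c • jΩ.toLinearMap.rTensor M w := by
          intro c w
          induction w using TensorProduct.induction_on with
          | zero => simp
          | tmul r m =>
            simp only [TensorProduct.smul_tmul', LinearMap.rTensor_tmul, AlgHom.toLinearMap_apply,
              smul_eq_mul, map_mul]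
            rfl
          | add y w hy hw => simp only [smul_add, map_add, hy, hw]
        rw [hsm]
        congr 1
        induction k generalizing w with
        | zero => simp
        | succ k ih =>
          rw [pow_succ, pow_succ, Module.End.mul_apply, Module.End.mul_apply, ih,
            rTensor_actEnd M jΩ]
    refine LinearMap.ext fun v => ?_
    induction v using TensorProduct.induction_on with
    | zero => simp
    | tmul r m =>
      have h1 : r ⊗ₜ[A] m = r • jΩ.toLinearMap.rTensor M ((1 : P) ⊗ₜ[A] m) := by
        simp [TensorProduct.smul_tmul']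
      rw [h1, map_smul, ← key, hχ0]
      simp
    | add y w hy hw => simp only [map_add, hy, hw]
  let : Algebra P R := j.toRingHom.toAlgebra
  let toΩP : R →ₐ[P] Ω := { toΩ.toRingHom with commutes' := fun _ => rfl }
  have hinj : Function.Injective (algebraMap R Ω) := by
    rw [IsScalarTower.algebraMap_eq R (FractionRing R) Ω]
    exact (algebraMap (FractionRing R) Ω).injective.comp (IsFractionRing.injective R _)
  have hR : IsIntegral P (detAct M R x) :=
    (isIntegral_algHom_iff toΩP hinj).mp hint
  have hcoef := MvPolynomial.isIntegral_iff_isIntegral_coeff.mp hR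
  have hrange : ∀ n, MvPolynomial.coeff n (detAct M R x) ∈ (algebraMap A K).range := fun n =>
    IsIntegrallyClosed.isIntegral_iff.mp (hcoef n)
  exact (MvPolynomial.mem_range_map_iff_coeffs_subset (f := algebraMap A K)).mpr fun c hc => by
    obtain ⟨n, -, rfl⟩ := MvPolynomial.mem_coeffs_iff.mp hc
    exact hrange n

/-- The determinant over a polynomial ring. -/
noncomputable def δ {σ : Type u} (z : MvPolynomial σ A ⊗[A] B) : MvPolynomial σ A :=
  (exists_int K M bK z).choose

theorem δ_spec {σ : Type u} (z : MvPolynomial σ A ⊗[A] B) :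
    MvPolynomial.map (algebraMap A K) (δ K M bK z) =
      detAct M (MvPolynomial σ K) (Algebra.TensorProduct.map
        (MvPolynomial.mapAlgHom (Algebra.ofId A K)) (AlgHom.id A B) z) :=
  (exists_int K M bK z).choose_spec

theorem δ_ext {σ : Type u} {p q : MvPolynomial σ A}
    (h : MvPolynomial.map (algebraMap A K) p = MvPolynomial.map (algebraMap A K) q) : p = q :=
  MvPolynomial.map_injective _ (IsFractionRing.injective A K) h

theorem δ_one {σ : Type u} : δ K M bK (1 : MvPolynomial σ A ⊗[A] B) = 1 :=
  δ_ext K (by rw [δ_spec, map_one, map_one, detAct_one])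

theorem δ_mul {σ : Type u} (y z : MvPolynomial σ A ⊗[A] B) :
    δ K M bK (y * z) = δ K M bK y * δ K M bK z :=
  δ_ext K (by rw [map_mul, δ_spec, δ_spec, δ_spec, map_mul, detAct_mul])

theorem δ_smul [Fintype ι] {σ : Type u} (p : MvPolynomial σ A) (z : MvPolynomial σ A ⊗[A] B) :
    δ K M bK (p • z) = p ^ Fintype.card ι * δ K M bK z := by
  refine δ_ext K ?_
  have hs : Algebra.TensorProduct.map (MvPolynomial.mapAlgHom (Algebra.ofId A K)) (AlgHom.id A B)
      (p • z) = MvPolynomial.map (algebraMap A K) p •
        Algebra.TensorProduct.map (MvPolynomial.mapAlgHom (Algebra.ofId A K)) (AlgHom.id A B) z := by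
    induction z using TensorProduct.induction_on with
    | zero => simp
    | tmul r b => simp [TensorProduct.smul_tmul']
    | add y w hy hw => simp only [smul_add, map_add, hy, hw]
  have := Module.Free.of_basis (basisR K M bK (MvPolynomial σ K))
  rw [map_mul, map_pow, δ_spec, δ_spec, hs, detAct, map_smul, LinearMap.det_smul,
    Module.finrank_eq_card_basis (basisR K M bK (MvPolynomial σ K))]
  rfl

theorem δ_map {σ τ : Type u} (ψ : MvPolynomial σ A →ₐ[A] MvPolynomial τ A)
    (z : MvPolynomial σ A ⊗[A] B) :
    δ K M bK (Algebra.TensorProduct.map ψ (AlgHom.id A B) z) = ψ (δ K M bK z) := by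
  let j := fun (ρ : Type u) => MvPolynomial.mapAlgHom (σ := ρ) (Algebra.ofId A K)
  let ψK : MvPolynomial σ K →ₐ[K] MvPolynomial τ K :=
    MvPolynomial.aeval fun i => j τ (ψ (MvPolynomial.X i))
  have hc : (ψK.restrictScalars A).comp (j σ) = (j τ).comp ψ :=
    MvPolynomial.algHom_ext fun i => by simp [ψK, j]
  refine δ_ext K ?_
  have h2 : MvPolynomial.map (algebraMap A K) (ψ (δ K M bK z)) =
      ψK (MvPolynomial.map (algebraMap A K) (δ K M bK z)) :=
    (DFunLike.congr_fun hc _).symm
  rw [δ_spec, h2, δ_spec, ← detAct_map_of_basis K M bK ψK]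
  congr 1
  rw [← AlgHom.comp_apply, ← AlgHom.comp_apply, ← Algebra.TensorProduct.map_comp,
    ← Algebra.TensorProduct.map_comp, hc]

/-- Specializations agreeing modulo the kernel of `π` give the same value. -/
theorem δ_congr {σ τ : Type u} {R : Type u} [CommSemiring R] [Algebra A R]
    (π : MvPolynomial τ A →ₐ[A] R) (φ ψ : MvPolynomial σ A →ₐ[A] MvPolynomial τ A)
    (h : ∀ i, π (φ (MvPolynomial.X i)) = π (ψ (MvPolynomial.X i))) (z : MvPolynomial σ A ⊗[A] B) :
    π (δ K M bK (Algebra.TensorProduct.map φ (AlgHom.id A B) z)) =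
      π (δ K M bK (Algebra.TensorProduct.map ψ (AlgHom.id A B) z)) := by
  rw [δ_map, δ_map]
  exact DFunLike.congr_fun (MvPolynomial.algHom_ext (f := π.comp φ) (g := π.comp ψ) h) _

section Law

variable (S : Type u) [CommSemiring S] [Algebra A S]

/-- The presentation of `S` by all its elements. -/
noncomputable abbrev pres : MvPolynomial S A →ₐ[A] S := MvPolynomial.aeval id

theorem pres_surjective : Function.Surjective
    (Algebra.TensorProduct.map (pres (A := A) S) (AlgHom.id A B)) :=
  TensorProduct.map_surjective (fun s => ⟨MvPolynomial.X s, by simp⟩) Function.surjective_id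

theorem δ_wellDefined {z z' : MvPolynomial S A ⊗[A] B}
    (h : Algebra.TensorProduct.map (pres (A := A) S) (AlgHom.id A B) z =
      Algebra.TensorProduct.map (pres (A := A) S) (AlgHom.id A B) z') :
    pres S (δ K M bK z) = pres S (δ K M bK z') := by
  classical
  let : CommRing S := { Algebra.semiringToRing A (A := S) with mul_comm := mul_comm }
  set π := pres (A := A) S
  have hex := rTensor_exact B (f := (RingHom.ker π).subtype.restrictScalars A) (g := π.toLinearMap)
    (fun p => ⟨fun hp => ⟨⟨p, hp⟩, rfl⟩, fun ⟨q, hq⟩ => hq ▸ q.2⟩)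
    (fun s => ⟨MvPolynomial.X s, by simp [π]⟩)
  have h0 : π.toLinearMap.rTensor B (z' - z) = 0 := by
    rw [map_sub, sub_eq_zero, rTensor_algHom_apply, rTensor_algHom_apply, h]
  obtain ⟨w, hw⟩ := (hex _).mp h0
  obtain ⟨m, p, b, rfl⟩ : ∃ (m : ℕ) (p : Fin m → RingHom.ker π) (b : Fin m → B),
      w = ∑ i, p i ⊗ₜ[A] b i := by
    obtain ⟨s, hs⟩ := TensorProduct.exists_finset w
    refine ⟨s.card, fun i => (s.equivFin.symm i).1.1, fun i => (s.equivFin.symm i).1.2, ?_⟩
    rw [hs, ← Finset.sum_coe_sort, ← s.equivFin.symm.sum_comp]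
  rw [map_sum] at hw
  let τ := S ⊕ ULift.{u} (Fin m)
  let φ : MvPolynomial τ A →ₐ[A] MvPolynomial S A :=
    MvPolynomial.aeval (Sum.elim MvPolynomial.X fun i => ((p i.down : RingHom.ker π) : MvPolynomial S A))
  let ψ : MvPolynomial τ A →ₐ[A] MvPolynomial S A :=
    MvPolynomial.aeval (Sum.elim MvPolynomial.X fun _ => 0)
  let z₁ : MvPolynomial τ A ⊗[A] B :=
    Algebra.TensorProduct.map (MvPolynomial.rename Sum.inl) (AlgHom.id A B) z +
      ∑ i, (MvPolynomial.X (Sum.inr (ULift.up i)) : MvPolynomial τ A) ⊗ₜ[A] b i
  have hid : ∀ y : MvPolynomial τ A →ₐ[A] MvPolynomial S A,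
      (∀ s, y (MvPolynomial.X (Sum.inl s)) = MvPolynomial.X s) →
      Algebra.TensorProduct.map y (AlgHom.id A B)
        (Algebra.TensorProduct.map (MvPolynomial.rename Sum.inl) (AlgHom.id A B) z) = z := by
    intro y hy
    have hc : y.comp (MvPolynomial.rename Sum.inl) = AlgHom.id A _ :=
      MvPolynomial.algHom_ext fun s => by simp [hy]
    rw [← AlgHom.comp_apply, ← Algebra.TensorProduct.map_comp, hc, AlgHom.id_comp,
      Algebra.TensorProduct.map_id, AlgHom.id_apply]
  have h1 : Algebra.TensorProduct.map φ (AlgHom.id A B) z₁ = z' := by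
    rw [map_add, hid φ (fun s => by simp [φ]), map_sum]
    simp only [LinearMap.rTensor_tmul] at hw
    rw [sub_eq_iff_eq_add'.mp hw.symm]
    refine congrArg (z + ·) (Finset.sum_congr rfl fun i _ => ?_)
    simp [φ]
  have h2 : Algebra.TensorProduct.map ψ (AlgHom.id A B) z₁ = z := by
    rw [map_add, hid ψ (fun s => by simp [ψ]), map_sum]
    simp [ψ]
  rw [← h1, ← h2]
  refine δ_congr K M bK π ψ φ (fun i => ?_) z₁
  rcases i with s | i
  · simp [φ, ψ]
  · simp only [φ, ψ, MvPolynomial.aeval_X, Sum.elim_inr, map_zero]
    exact ((p i.down).2 : π _ = 0).symm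

/-- The value of the law. -/
noncomputable def value (x : S ⊗[A] B) : S :=
  pres S (δ K M bK (pres_surjective S x).choose)

theorem value_eq {x : S ⊗[A] B} (z : MvPolynomial S A ⊗[A] B)
    (hz : Algebra.TensorProduct.map (pres (A := A) S) (AlgHom.id A B) z = x) :
    value K M bK S x = pres S (δ K M bK z) :=
  δ_wellDefined K M bK S ((pres_surjective S x).choose_spec.trans hz.symm)

end Law

theorem value_map {S S' : Type u} [CommSemiring S] [Algebra A S] [CommSemiring S'] [Algebra A S']
    (φ : S →ₐ[A] S') (x : S ⊗[A] B) :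
    φ (value K M bK S x) = value K M bK S' (φ.toLinearMap.rTensor B x) := by
  let Φ : MvPolynomial S A →ₐ[A] MvPolynomial S' A := MvPolynomial.rename φ
  have hc : (pres S').comp Φ = φ.comp (pres (A := A) S) :=
    MvPolynomial.algHom_ext fun s => by simp [Φ]
  obtain ⟨z, hz⟩ := pres_surjective (A := A) (B := B) S x
  rw [value_eq K M bK S z hz, value_eq K M bK S' (Algebra.TensorProduct.map Φ (AlgHom.id A B) z),
    δ_map]
  · exact (DFunLike.congr_fun hc _).symm
  · rw [rTensor_algHom_apply, ← hz]
    rw [← AlgHom.comp_apply, ← AlgHom.comp_apply, ← Algebra.TensorProduct.map_comp,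
      ← Algebra.TensorProduct.map_comp, hc]

/-- The law. -/
noncomputable def law [Fintype ι] : MulLaw A B A (Fintype.card ι) where
  law :=
  { toFun' := fun S _ _ x => value K M bK S x ⊗ₜ[A] (1 : A)
    isCompat' := fun φ => by
      funext x
      simp only [Function.comp_apply, LinearMap.rTensor_tmul, AlgHom.toLinearMap_apply, value_map] }
  homog S _ _ s x := by
    change _ ⊗ₜ[A] (1 : A) = s ^ _ • (_ ⊗ₜ[A] (1 : A))
    obtain ⟨z, hz⟩ := pres_surjective (A := A) (B := B) S x
    rw [TensorProduct.smul_tmul', smul_eq_mul, value_eq K M bK S z hz,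
      value_eq K M bK S ((MvPolynomial.X s : MvPolynomial S A) • z), δ_smul, map_mul, map_pow]
    · simp
    · rw [← hz]
      clear hz
      induction z using TensorProduct.induction_on with
      | zero => simp
      | tmul r b => simp [TensorProduct.smul_tmul']
      | add y w hy hw => simp only [smul_add, map_add, hy, hw]
  mult S _ _ := by
    refine ⟨?_, fun x y => ?_⟩
    · change _ ⊗ₜ[A] (1 : A) = _
      rw [value_eq K M bK S 1, δ_one, map_one]
      · rfl
      · simp [Algebra.TensorProduct.one_def]
    · change _ ⊗ₜ[A] (1 : A) = (_ ⊗ₜ[A] (1 : A)) * (_ ⊗ₜ[A] (1 : A))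
      obtain ⟨z, hz⟩ := pres_surjective (A := A) (B := B) S x
      obtain ⟨w, hw⟩ := pres_surjective (A := A) (B := B) S y
      rw [value_eq K M bK S z hz, value_eq K M bK S w hw, value_eq K M bK S (z * w), δ_mul, map_mul,
        Algebra.TensorProduct.tmul_mul_tmul, one_mul]
      rw [map_mul, hz, hw]

/-- Over a polynomial ring the law is `δ`. -/
theorem value_poly {σ : Type u} (x : MvPolynomial σ A ⊗[A] B) :
    value K M bK (MvPolynomial σ A) x = δ K M bK x := by
  obtain ⟨z, hz⟩ := pres_surjective (A := A) (B := B) (MvPolynomial σ A) x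
  rw [value_eq K M bK _ z hz, ← δ_map, hz]


/-- Over a polynomial ring in `n` variables the value is the determinant over the fraction field. -/
theorem value_fractionRing {n : ℕ} {L : Type u} [Field L] [Algebra A L]
    [Algebra (MvPolynomial (Fin n) A) L] [IsScalarTower A (MvPolynomial (Fin n) A) L]
    [Algebra K L] [IsScalarTower A K L] (x : MvPolynomial (Fin n) A ⊗[A] B) :
    algebraMap (MvPolynomial (Fin n) A) L (value K M bK (MvPolynomial (Fin n) A) x) =
      detAct M L (Algebra.TensorProduct.map
        (IsScalarTower.toAlgHom A (MvPolynomial (Fin n) A) L) (AlgHom.id A B) x) := by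
  let e : MvPolynomial (Fin n) A ≃ₐ[A] MvPolynomial (ULift.{u} (Fin n)) A :=
    MvPolynomial.renameEquiv A Equiv.ulift.symm
  let jL : MvPolynomial (ULift.{u} (Fin n)) A →ₐ[A] L :=
    (IsScalarTower.toAlgHom A (MvPolynomial (Fin n) A) L).comp e.symm.toAlgHom
  let ψ : MvPolynomial (ULift.{u} (Fin n)) K →ₐ[K] L :=
    MvPolynomial.aeval fun i => jL (MvPolynomial.X i)
  have hc : (ψ.restrictScalars A).comp (MvPolynomial.mapAlgHom (Algebra.ofId A K)) = jL :=
    MvPolynomial.algHom_ext fun i => by simp [ψ]
  have h1 := value_map K M bK e.toAlgHom x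
  rw [value_poly, rTensor_algHom_apply] at h1
  have h2 : algebraMap (MvPolynomial (Fin n) A) L (value K M bK (MvPolynomial (Fin n) A) x) =
      jL (δ K M bK (Algebra.TensorProduct.map e.toAlgHom (AlgHom.id A B) x)) := by
    rw [← h1]; simp [jL]
  rw [h2, ← DFunLike.congr_fun hc, AlgHom.comp_apply]
  change ψ (MvPolynomial.map (algebraMap A K) _) = _
  rw [δ_spec, ← detAct_map_of_basis K M bK ψ, ← AlgHom.comp_apply, ← AlgHom.comp_apply,
    ← Algebra.TensorProduct.map_comp, ← Algebra.TensorProduct.map_comp, hc]
  congr 3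
  exact AlgHom.ext fun p => by simp [jL]

end Groth.Agent.PolLawLib.GenericRank
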