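import Groth.Prelude.Def_PolLaw
import Groth.Prelude.Def_PolLaw2
import Mathlib

/-!
# The determinant law of a finite projective module

For `f : A^n → M`, `g : M → A^n` with `f ∘ g = id`, the endomorphism `g x f + (1 - g f)` of a free
module has a determinant, natural in the test algebra; over local test algebras it is the
determinant of the action of `x` on `S ⊗ M`.
-/

universe u

open scoped TensorProduct

namespace Groth.Agent.PolLawLib

open PolLaw

variable {A : Type u} [CommRing A] {B : Type u} [CommRing B] [Algebra A B]

/-- Laws `B → A` are determined by their values on local test rings. -/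
theorem ext_local {N N' : B →ₚₗ[A] A}
    (h : ∀ (S : Type u) [CommRing S] [IsLocalRing S] [Algebra A S] (x : S ⊗[A] B),
      N.toFun' S x = N'.toFun' S x) : N = N' := by
  have hring : ∀ (R : Type u) [CommRing R] [Algebra A R] (x : R ⊗[A] B),
      N.toFun' R x = N'.toFun' R x := by
    intro R _ _ x
    apply (TensorProduct.rid A R).injective
    rw [← sub_eq_zero]
    refine eq_zero_of_localization _ fun J _ => ?_
    let φ : R →ₐ[A] Localization.AtPrime J := IsScalarTower.toAlgHom A R _
    have hnat : ∀ z : R ⊗[A] A, φ (TensorProduct.rid A R z) =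
        TensorProduct.rid A _ (φ.toLinearMap.rTensor A z) := by
      intro z
      induction z using TensorProduct.induction_on with
      | zero => simp
      | tmul r a => simp
      | add y z hy hz => simp only [map_add, hy, hz]
    have hN : ∀ L : B →ₚₗ[A] A, φ (TensorProduct.rid A R (L.toFun' R x)) =
        TensorProduct.rid A _ (L.toFun' _ (φ.toLinearMap.rTensor B x)) := fun L => by
      rw [hnat, PolynomialLaw.isCompat_apply']
    change φ _ = 0
    rw [map_sub, hN, hN, h, sub_self]
  apply PolynomialLaw.ext
  funext S _ _ x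
  let e : A ⊗[A] S ≃ₐ[A] S := Algebra.TensorProduct.lid A S
  have hx : e.toAlgHom.toLinearMap.rTensor B (toRing A B S x) = x := by
    induction x using TensorProduct.induction_on with
    | zero => simp
    | tmul s b => simp [e, toRing, Algebra.TensorProduct.map_tmul]
    | add y z hy hz => simp only [map_add, hy, hz]
  rw [← hx, ← PolynomialLaw.isCompat_apply', ← PolynomialLaw.isCompat_apply', hring]

variable (M : Type u) [AddCommGroup M] [Module A M] [Module B M] [IsScalarTower A B M] {n : ℕ}
  (f : (Fin n → A) →ₗ[A] M) (g : M →ₗ[A] (Fin n → A))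

/-- The extension of the action by the identity on a complement. -/
noncomputable def extEnd (R : Type u) [CommRing R] [Algebra A R] (x : R ⊗[A] B) :
    Module.End R (R ⊗[A] (Fin n → A)) :=
  g.baseChange R ∘ₗ actEnd M R x ∘ₗ f.baseChange R + (LinearMap.id - (g ∘ₗ f).baseChange R)

/-- Its determinant. -/
noncomputable def detExt (R : Type u) [CommRing R] [Algebra A R] (x : R ⊗[A] B) : R :=
  LinearMap.det (extEnd M f g R x)

theorem baseChange_rTensor {P P' : Type u} [AddCommGroup P] [Module A P] [AddCommGroup P']
    [Module A P'] (h : P →ₗ[A] P') {R R' : Type u} [CommRing R] [Algebra A R] [CommRing R']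
    [Algebra A R'] (ψ : R →ₐ[A] R') (z : R ⊗[A] P) :
    h.baseChange R' (ψ.toLinearMap.rTensor P z) = ψ.toLinearMap.rTensor P' (h.baseChange R z) := by
  induction z using TensorProduct.induction_on with
  | zero => simp
  | tmul r p => simp
  | add y z hy hz => simp only [map_add, hy, hz]

theorem detExt_map {R R' : Type u} [CommRing R] [Algebra A R] [CommRing R'] [Algebra A R']
    (ψ : R →ₐ[A] R') (x : R ⊗[A] B) :
    detExt M f g R' (Algebra.TensorProduct.map ψ (AlgHom.id A B) x) = ψ (detExt M f g R x) := by
  classical
  let b := Pi.basisFun A (Fin n)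
  have hrepr : ∀ (z : R ⊗[A] (Fin n → A)) (i : Fin n),
      (Algebra.TensorProduct.basis R' b).repr (ψ.toLinearMap.rTensor _ z) i =
        ψ ((Algebra.TensorProduct.basis R b).repr z i) := by
    intro z i
    induction z using TensorProduct.induction_on with
    | zero => simp
    | tmul t m => simp [LinearMap.rTensor_tmul, Algebra.TensorProduct.basis_repr_tmul]
    | add z z' hz hz' => simp only [map_add, Finsupp.add_apply, hz, hz']
  unfold detExt
  rw [← LinearMap.det_toMatrix (Algebra.TensorProduct.basis R' b),
    ← LinearMap.det_toMatrix (Algebra.TensorProduct.basis R b), AlgHom.map_det]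
  congr 1
  ext i j
  have h1 : (1 : R') ⊗ₜ[A] b j = ψ.toLinearMap.rTensor _ ((1 : R) ⊗ₜ[A] b j) := by simp
  simp only [AlgHom.mapMatrix_apply, Matrix.map_apply, LinearMap.toMatrix_apply,
    Algebra.TensorProduct.basis_apply]
  rw [← hrepr, h1]
  congr 2
  simp only [extEnd, LinearMap.add_apply, LinearMap.sub_apply, LinearMap.comp_apply,
    LinearMap.id_apply, map_add, map_sub, baseChange_rTensor]
  rw [← rTensor_actEnd M ψ, baseChange_rTensor]

variable (hfg : f ∘ₗ g = LinearMap.id)
include hfg

theorem extEnd_one (R : Type u) [CommRing R] [Algebra A R] : extEnd M f g R (1 : R ⊗[A] B) = 1 := by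
  rw [extEnd, map_one, Module.End.one_eq_id, LinearMap.id_comp, ← LinearMap.baseChange_comp]
  exact add_sub_cancel ((g ∘ₗ f).baseChange R) (LinearMap.id : R ⊗[A] (Fin n → A) →ₗ[R] R ⊗[A] (Fin n → A))

theorem extEnd_mul (R : Type u) [CommRing R] [Algebra A R] (x y : R ⊗[A] B) :
    extEnd M f g R (x * y) = extEnd M f g R x * extEnd M f g R y := by
  have hp : ∀ z, f.baseChange R (g.baseChange R z) = z := fun z => by
    rw [← LinearMap.comp_apply, ← LinearMap.baseChange_comp, hfg, LinearMap.baseChange_id]; rfl
  refine LinearMap.ext fun z => ?_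
  simp only [extEnd, map_mul, Module.End.mul_apply, LinearMap.add_apply, LinearMap.sub_apply,
    LinearMap.comp_apply, LinearMap.id_apply, LinearMap.baseChange_comp, map_add, map_sub, hp]
  abel

theorem detExt_eq_detAct (R : Type u) [CommRing R] [IsLocalRing R] [Algebra A R] (x : R ⊗[A] B) :
    detExt M f g R x = detAct M R x := by
  classical
  set fR := f.baseChange R
  set gR := g.baseChange R
  have hp : ∀ z, fR (gR z) = z := fun z => by
    rw [← LinearMap.comp_apply, ← LinearMap.baseChange_comp, hfg, LinearMap.baseChange_id]; rfl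
  have : Module.Finite A M :=
    Module.Finite.of_surjective f fun m => ⟨g m, LinearMap.congr_fun hfg m⟩
  have : Module.Projective A M := Module.Projective.of_split g f hfg
  let e : (R ⊗[A] (Fin n → A)) ≃ₗ[R] (R ⊗[A] M) × LinearMap.ker fR :=
    { toFun := fun z => (fR z, ⟨z - gR (fR z), by simp [LinearMap.mem_ker, hp]⟩)
      invFun := fun p => gR p.1 + p.2.1
      map_add' := fun y z => by
        ext
        · simp
        · simp only [map_add, Prod.snd_add, Submodule.coe_add]; abel
      map_smul' := fun c z => by ext <;> simp [smul_sub]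
      left_inv := fun z => by simp
      right_inv := fun p => by
        have hk : fR p.2.1 = 0 := p.2.2
        ext <;> simp [hp, hk] }
  have : Module.Free R (R ⊗[A] M) := Module.free_of_flat_of_isLocalRing
  have : Module.Finite R (LinearMap.ker fR) :=
    Module.Finite.of_surjective
      ((LinearMap.snd R (R ⊗[A] M) (LinearMap.ker fR)).comp e.toLinearMap)
      fun k => ⟨e.symm (0, k), by simp⟩
  have : Module.Projective R (LinearMap.ker fR) :=
    Module.Projective.of_split (M := R ⊗[A] (Fin n → A))
      ((e.symm.toLinearMap).comp (LinearMap.inr R (R ⊗[A] M) (LinearMap.ker fR)))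
      ((LinearMap.snd R (R ⊗[A] M) (LinearMap.ker fR)).comp e.toLinearMap)
      (LinearMap.ext fun k => by simp)
  have : Module.Free R (LinearMap.ker fR) := @Module.free_of_flat_of_isLocalRing R (LinearMap.ker fR) _ _ _ _ _ _
  have hconj : e.toLinearMap ∘ₗ extEnd M f g R x ∘ₗ e.symm.toLinearMap =
      LinearMap.prodMap (actEnd M R x) LinearMap.id := by
    refine LinearMap.ext fun p => ?_
    have hk : fR p.2.1 = 0 := p.2.2
    simp only [LinearMap.comp_apply, LinearEquiv.coe_coe, extEnd, LinearMap.add_apply,
      LinearMap.sub_apply, LinearMap.id_apply, LinearMap.baseChange_comp, LinearMap.prodMap_apply]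
    have h1 : e.symm p = gR p.1 + p.2.1 := rfl
    have h2 : ∀ z, (e z).1 = fR z := fun z => rfl
    have h3 : ∀ z, ((e z).2 : R ⊗[A] (Fin n → A)) = z - gR (fR z) := fun z => rfl
    refine Prod.ext ?_ (Subtype.ext ?_)
    · rw [h2, h1]; simp [hp, hk, fR, gR] at *
    · rw [h3, h1]; simp [hp, hk, fR, gR] at *
  rw [detExt, ← LinearMap.det_conj (N := (R ⊗[A] M) × LinearMap.ker fR) (extEnd M f g R x) e, hconj,
    LinearMap.det_prodMap,
    LinearMap.det_id, mul_one]
  rfl

/-- The determinant law of a finite projective module, as a polynomial law. -/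
noncomputable def projLaw : B →ₚₗ[A] A where
  toFun' S _ _ := fun x =>
    (Algebra.TensorProduct.lid A S (detExt M f g (A ⊗[A] S) (toRing A B S x))) ⊗ₜ[A] (1 : A)
  isCompat' {S} _ _ {S'} _ _ φ := by
    funext x
    simp only [Function.comp_apply]
    let ψ : A ⊗[A] S →ₐ[A] A ⊗[A] S' := Algebra.TensorProduct.map (AlgHom.id A A) φ
    have hψ : Algebra.TensorProduct.map ψ (AlgHom.id A B) (toRing A B S x) =
        toRing A B S' (φ.toLinearMap.rTensor B x) := by
      induction x using TensorProduct.induction_on with
      | zero => simp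
      | tmul s b => simp [ψ, Algebra.TensorProduct.map_tmul, Algebra.TensorProduct.lid_symm_apply,
          LinearMap.rTensor_tmul]
      | add x y hx hy => simp only [map_add, hx, hy]
    have hlid : ∀ r : A ⊗[A] S,
        Algebra.TensorProduct.lid A S' (ψ r) = φ (Algebra.TensorProduct.lid A S r) := by
      intro r
      induction r using TensorProduct.induction_on with
      | zero => simp
      | tmul a s => simp [ψ, Algebra.TensorProduct.map_tmul, Algebra.TensorProduct.lid_tmul]
      | add x y hx hy => simp only [map_add, hx, hy]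
    rw [LinearMap.rTensor_tmul, ← hψ, detExt_map M f g ψ, AlgHom.toLinearMap_apply, hlid]

theorem projLaw_isMult : IsMult (projLaw (A := A) (B := B) M f g) := by
  intro S _ _
  constructor
  · change _ ⊗ₜ[A] (1 : A) = _
    have h : toRing A B S 1 = 1 := by
      simp [Algebra.TensorProduct.one_def, Algebra.TensorProduct.map_tmul,
        Algebra.TensorProduct.lid_symm_apply]
    have h1 : Algebra.TensorProduct.lid A S 1 = 1 := by
      simp [Algebra.TensorProduct.one_def, Algebra.TensorProduct.lid_tmul]
    rw [h, detExt, extEnd_one M f g hfg, map_one, h1]; rfl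
  · intro x y
    change _ ⊗ₜ[A] (1 : A) = (_ ⊗ₜ[A] (1 : A)) * (_ ⊗ₜ[A] (1 : A))
    rw [map_mul, detExt, extEnd_mul M f g hfg, map_mul, map_mul, Algebra.TensorProduct.tmul_mul_tmul,
      one_mul]
    rfl

theorem projLaw_apply (R : Type u) [CommRing R] [IsLocalRing R] [Algebra A R] (x : R ⊗[A] B) :
    (projLaw (A := A) (B := B) M f g).toFun' R x = detAct M R x ⊗ₜ[A] (1 : A) := by
  change _ ⊗ₜ[A] (1 : A) = _
  have h1 : Algebra.TensorProduct.map (Algebra.TensorProduct.lid A R).toAlgHom (AlgHom.id A B)
      (toRing A B R x) = x := by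
    induction x using TensorProduct.induction_on with
    | zero => simp
    | tmul s b => simp [Algebra.TensorProduct.map_tmul, Algebra.TensorProduct.lid_symm_apply]
    | add x y hx hy => simp only [map_add, hx, hy]
  have h2 := detExt_map M f g (Algebra.TensorProduct.lid A R).toAlgHom (toRing A B R x)
  rw [h1, detExt_eq_detAct M f g hfg] at h2
  rw [h2]
  rfl

omit hfg in
/-- Homogeneity follows from homogeneity on local test rings. -/
theorem isHomog_of_local {N : B →ₚₗ[A] A} {d : ℕ}
    (h : ∀ (S : Type u) [CommRing S] [IsLocalRing S] [Algebra A S] (s : S) (x : S ⊗[A] B),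
      N.toFun' S (s • x) = s ^ d • N.toFun' S x) : IsHomog N d := by
  have hring : ∀ (R : Type u) [CommRing R] [Algebra A R] (s : R) (x : R ⊗[A] B),
      N.toFun' R (s • x) = s ^ d • N.toFun' R x := by
    intro R _ _ s x
    apply (TensorProduct.rid A R).injective
    rw [← sub_eq_zero]
    refine eq_zero_of_localization _ fun J _ => ?_
    let φ : R →ₐ[A] Localization.AtPrime J := IsScalarTower.toAlgHom A R _
    have hnat : ∀ z : R ⊗[A] A, φ (TensorProduct.rid A R z) =
        TensorProduct.rid A _ (φ.toLinearMap.rTensor A z) := by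
      intro z
      induction z using TensorProduct.induction_on with
      | zero => simp
      | tmul r a => simp
      | add y z hy hz => simp only [map_add, hy, hz]
    have hsm : ∀ {P : Type u} [AddCommGroup P] [Module A P] (t : R) (z : R ⊗[A] P),
        φ.toLinearMap.rTensor P (t • z) = φ t • φ.toLinearMap.rTensor P z := by
      intro P _ _ t z
      induction z using TensorProduct.induction_on with
      | zero => simp
      | tmul r p => simp [TensorProduct.smul_tmul']
      | add y z hy hz => simp only [smul_add, map_add, hy, hz]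
    change φ _ = 0
    rw [map_sub, hnat, hnat, hsm, PolynomialLaw.isCompat_apply', PolynomialLaw.isCompat_apply', hsm, h,
      map_pow, sub_self]
  intro S _ _ s x
  let e : A ⊗[A] S ≃ₐ[A] S := Algebra.TensorProduct.lid A S
  have hx : ∀ z : S ⊗[A] B, e.toAlgHom.toLinearMap.rTensor B (toRing A B S z) = z := by
    intro z
    induction z using TensorProduct.induction_on with
    | zero => simp
    | tmul s b => simp [e, toRing, Algebra.TensorProduct.map_tmul]
    | add y z hy hz => simp only [map_add, hy, hz]
  have hsm : ∀ {P : Type u} [AddCommGroup P] [Module A P] (t : A ⊗[A] S) (z : (A ⊗[A] S) ⊗[A] P),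
      e.toAlgHom.toLinearMap.rTensor P (t • z) = e t • e.toAlgHom.toLinearMap.rTensor P z := by
    intro P _ _ t z
    induction z using TensorProduct.induction_on with
    | zero => simp
    | tmul r p => simp [TensorProduct.smul_tmul']
    | add y z hy hz => simp only [smul_add, map_add, hy, hz]
  have hs : s • x = e.toAlgHom.toLinearMap.rTensor B (e.symm s • toRing A B S x) := by
    rw [hsm, hx, e.apply_symm_apply]
  rw [hs, ← PolynomialLaw.isCompat_apply', hring, hsm, map_pow, e.apply_symm_apply,
    PolynomialLaw.isCompat_apply', hx]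

end Groth.Agent.PolLawLib
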